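import Cfsg.Agent.Lib.Phan.AutTwo
import Cfsg.Agent.Lib.Phan.Blocks

/-!
Elements of `SU 2` and `SU 3` over the field with four elements.
-/

set_option autoImplicit false

namespace CfsgLib.Phan.Two

open Matrix CfsgLib.Classical CfsgLib.Classical.Unitary CfsgLib.Pres.SU CfsgLib.Pres.SU.Chain

variable {F : Type*} [Field F] {σ : F →+* F} {w : F}

/-- The facts about the field that are used. -/
structure Quad (σ : F →+* F) (w : F) : Prop where
  two : (2 : F) = 0
  rel : 1 + w + w ^ 2 = 0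
  cube : w ^ 3 = 1
  conj : σ w = w ^ 2

theorem exists_quad [Finite F] (hF : Nat.card F = 2 ^ 2) (h : UFrob σ 2) : ∃ w, Quad σ w := by
  obtain ⟨w, e1, e2, e3⟩ := exists_omega hF h rfl
  exact ⟨w, two_eq_zero_of_q_two hF rfl, e1, e2, e3⟩

theorem Quad.ne_zero (Q : Quad σ w) : w ≠ 0 := fun e => by
  have := Q.cube; simp [e] at this

theorem Quad.ne_one (Q : Quad σ w) : w ≠ 1 := fun e => by
  have := Q.rel; rw [e] at this
  exact one_ne_zero (show (1 : F) = 0 by linear_combination this - Q.two)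

theorem Quad.sq_ne_one (Q : Quad σ w) : w ^ 2 ≠ 1 := fun e => Q.ne_one (by
  have := Q.cube; linear_combination this - w * e)

theorem Quad.units [Finite F] (Q : Quad σ w) (hF : Nat.card F = 2 ^ 2) {x : F} (hx : x ≠ 0) :
    x = 1 ∨ x = w ∨ x = w ^ 2 := by
  have := Fintype.ofFinite F
  have h3 : x ^ 3 = 1 := by
    have := FiniteField.pow_card_sub_one_eq_one x hx
    rwa [← Nat.card_eq_fintype_card, hF] at this
  have e : (x - 1) * ((x - w) * (x - w ^ 2)) = 0 := by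
    linear_combination h3 - x ^ 2 * Q.rel + x * w * Q.rel - Q.cube
  rcases mul_eq_zero.1 e with e | e
  · exact Or.inl (sub_eq_zero.1 e)
  rcases mul_eq_zero.1 e with e | e
  · exact Or.inr (Or.inl (sub_eq_zero.1 e))
  · exact Or.inr (Or.inr (sub_eq_zero.1 e))

/-- The two generators of `SU 2`. -/
structure Els (h : UFrob σ 2) (w : F) (D J : Cfsg.SU 2 F 2) : Prop where
  Dv : D.1.1 = !![w, 0; 0, w ^ 2]
  Jv : J.1.1 = !![0, 1; 1, 0]
  D3 : D ^ 3 = 1
  J2 : J * J = 1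
  flip : J * D * J⁻¹ = D⁻¹

theorem exists_els (h : UFrob σ 2) (Q : Quad σ w) : ∃ D J, Els h w D J := by
  have t2 := Q.two
  have c3 := Q.cube
  obtain ⟨D, hD⟩ := exists_diag_two h (x := w) (by rw [Q.conj]; linear_combination c3)
  obtain ⟨J, hJ⟩ := exists_su_two h (α := (0 : F)) (β := 1) (by simp)
  rw [Q.conj] at hD
  have hJ' : J.1.1 = !![0, 1; 1, 0] := by
    rw [hJ]
    ext r s
    fin_cases r <;> fin_cases s <;> simp
    grobner
  refine ⟨D, J, hD, hJ', ?_, ?_, ?_⟩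
  · rw [pow_succ, pow_two]
    refine Subtype.ext (Subtype.ext ?_)
    show D.1.1 * D.1.1 * D.1.1 = 1
    rw [hD]
    ext r s
    fin_cases r <;> fin_cases s <;> simp [Matrix.mul_apply, Fin.sum_univ_two] <;> grobner
  · refine Subtype.ext (Subtype.ext ?_)
    show J.1.1 * J.1.1 = 1
    rw [hJ']
    ext r s
    fin_cases r <;> fin_cases s <;> simp [Matrix.mul_apply, Fin.sum_univ_two]
  · refine eq_inv_of_mul_eq_one_right ?_
    rw [← mul_assoc, ← mul_assoc, mul_inv_eq_one]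
    refine Subtype.ext (Subtype.ext ?_)
    show D.1.1 * J.1.1 * D.1.1 = J.1.1
    rw [hD, hJ']
    ext r s
    fin_cases r <;> fin_cases s <;> simp [Matrix.mul_apply, Fin.sum_univ_two] <;> grobner

variable {h : UFrob σ 2} {D J : Cfsg.SU 2 F 2}

/-- They generate. -/
theorem Els.top [Finite F] (E : Els h w D J) (Q : Quad σ w) (hF : Nat.card F = 2 ^ 2)
    (H : Subgroup (Cfsg.SU 2 F 2)) (hD : D ∈ H) (hJ : J ∈ H) : H = ⊤ := by
  have t2 := Q.two
  have c3 := Q.cube
  have hd : ∀ u : F, u ≠ 0 → ∀ x : Cfsg.SU 2 F 2, x.1.1 0 0 = u → x.1.1 1 0 = 0 → x ∈ H := by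
    intro u hu x h0 h1
    rcases Q.units hF hu with rfl | rfl | rfl
    · rw [show x = 1 from su2_ext h (by rw [h0]; simp) (by rw [h1]; simp)]
      exact H.one_mem
    · rw [show x = D from su2_ext h (by rw [h0, E.Dv]; simp) (by rw [h1, E.Dv]; simp)]
      exact hD
    · rw [show x = D * D from su2_ext h
        (by rw [h0]; show _ = (D.1.1 * D.1.1) 0 0; simp [E.Dv, Matrix.mul_apply, Fin.sum_univ_two]; ring)
        (by rw [h1]; show _ = (D.1.1 * D.1.1) 1 0; simp [E.Dv, Matrix.mul_apply, Fin.sum_univ_two])]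
      exact H.mul_mem hD hD
  refine eq_top_iff.2 fun M _ => ?_
  have hn := su2_norm h M
  by_cases h1 : M.1.1 1 0 = 0
  · refine hd _ (fun e => ?_) M rfl h1
    rw [e, h1] at hn; simp at hn
  · have h0 : M.1.1 0 0 = 0 := by
      by_contra h0
      rw [norm_four hF h h0, norm_four hF h h1] at hn
      exact one_ne_zero (by linear_combination hn)
    have := H.mul_mem hJ (hd _ h1 (J * M)
      (by show (J.1.1 * M.1.1) 0 0 = _; simp [E.Jv, Matrix.mul_apply, Fin.sum_univ_two])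
      (by show (J.1.1 * M.1.1) 1 0 = _; simp [E.Jv, Matrix.mul_apply, Fin.sum_univ_two, h0]))
    rwa [← mul_assoc, E.J2, one_mul] at this

theorem sh0_apply (h : UFrob σ 2) (M : Cfsg.SU 2 F 2) (y : Fin 3 → F) :
    (embF h (sh 0 (show 0 + 2 ≤ 3 by omega)) M).1.1 *ᵥ y =
      ![M.1.1 0 0 * y 0 + M.1.1 0 1 * y 1, M.1.1 1 0 * y 0 + M.1.1 1 1 * y 1, y 2] := by
  rw [← embF_congr h f01_eq]; exact embF01_apply h M y

theorem sh1_apply (h : UFrob σ 2) (M : Cfsg.SU 2 F 2) (y : Fin 3 → F) :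
    (embF h (sh 1 (show 1 + 2 ≤ 3 by omega)) M).1.1 *ᵥ y =
      ![y 0, M.1.1 0 0 * y 1 + M.1.1 0 1 * y 2, M.1.1 1 0 * y 1 + M.1.1 1 1 * y 2] := by
  rw [← embF_congr h f12_eq]; exact embF12_apply h M y

/-- The relations in three coordinates. -/
theorem Els.rels (E : Els h w D J) (Q : Quad σ w) :
    let b0 := embF h (sh 0 (show 0 + 2 ≤ 3 by omega))
    let b1 := embF h (sh 1 (show 1 + 2 ≤ 3 by omega))
    Commute (b0 D) (b1 D) ∧ b0 J * b1 D * (b0 J)⁻¹ = b0 D * b1 D ∧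
      b1 J * b0 D * (b1 J)⁻¹ = b0 D * b1 D := by
  intro b0 b1
  have t2 := Q.two
  have c3 := Q.cube
  refine ⟨?_, mul_inv_eq_iff_eq_mul.2 ?_, mul_inv_eq_iff_eq_mul.2 ?_⟩ <;>
    refine su_ext fun y => ?_ <;>
    simp only [b0, b1, su_mul_mulVec, sh0_apply, sh1_apply, E.Dv, E.Jv] <;>
    funext r <;> fin_cases r <;> simp <;> grobner

end CfsgLib.Phan.Two
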