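import Cfsg.Agent.Lib.Phan.Two.Basic

/-!
Over the field with four elements the two planes together with two more elements generate `SU 3`;
a homomorphism fixing the planes is the identity.
-/

set_option autoImplicit false

namespace CfsgLib.Phan.Two

open Matrix CfsgLib.Classical CfsgLib.Classical.Unitary CfsgLib.Pres.SU CfsgLib.Pres.SU.Chain

variable {F : Type*} [Field F] {σ : F →+* F} {w : F}

/-- The subgroup generated by the planes. -/
def planes (h : UFrob σ 2) : Subgroup (Cfsg.SU 3 F 2) :=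
  (embF h (sh 0 (show 0 + 2 ≤ 3 by omega))).range ⊔ (embF h (sh 1 (show 1 + 2 ≤ 3 by omega))).range

theorem mem_planes0 (h : UFrob σ 2) (M : Cfsg.SU 2 F 2) :
    embF h (sh 0 (show 0 + 2 ≤ 3 by omega)) M ∈ planes h := Subgroup.mem_sup_left ⟨M, rfl⟩

theorem mem_planes1 (h : UFrob σ 2) (M : Cfsg.SU 2 F 2) :
    embF h (sh 1 (show 1 + 2 ≤ 3 by omega)) M ∈ planes h := Subgroup.mem_sup_right ⟨M, rfl⟩

set_option maxHeartbeats 800000 in
/-- The extra elements. -/
theorem exists_extra [Finite F] (hF : Nat.card F = 2 ^ 2) (h : UFrob σ 2) (Q : Quad σ w)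
    {D J : Cfsg.SU 2 F 2} (E : Els h w D J) :
    ∃ W V : Cfsg.SU 3 F 2,
      (∀ g, g = W ∨ g = V → g * g ∈ planes h ∧
        g * embF h (sh 1 (show 1 + 2 ≤ 3 by omega)) D * g⁻¹ ∈ planes h ∧
        g * (embF h (sh 1 (show 1 + 2 ≤ 3 by omega)) J * embF h (sh 0 (show 0 + 2 ≤ 3 by omega)) J) * g⁻¹
          ∈ planes h) ∧
      ∀ H : Subgroup (Cfsg.SU 3 F 2), planes h ≤ H → W ∈ H → V ∈ H → H = ⊤ := by
  have t2 := Q.two
  have c3 := Q.cube
  have rel := Q.rel
  have hωσ := Q.conj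
  have hmem : ∀ M : Matrix (Fin 3) (Fin 3) F, Mᵀ * M.map σ = 1 → ∀ hd : M.det = 1,
      (⟨M, hd⟩ : Matrix.SpecialLinearGroup (Fin 3) F) ∈ Cfsg.SU 3 F 2 := by
    intro M hM hd
    refine mem_SU_iff.2 fun u v => ?_
    show Cfsg.hermForm 3 F 2 (M *ᵥ u) (M *ᵥ v) = _
    rw [h.hermForm_eq, h.hermForm_eq, uh, uh,
      show σ ∘ (M *ᵥ v) = M.map σ *ᵥ (σ ∘ v) from funext fun i => RingHom.map_mulVec σ M v i,
      dotProduct_mulVec, vecMul_mulVec, hM, vecMul_one]
  let Wm : Matrix (Fin 3) (Fin 3) F := !![1, 1, 1; 1, w, w ^ 2; 1, w ^ 2, w]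
  let Vm : Matrix (Fin 3) (Fin 3) F := !![1, 1, w ^ 2; 1, w, w; w, 1, w]
  have hW1 : Wm.det = 1 := by simp [Wm, Matrix.det_fin_three]; grobner
  have hV1 : Vm.det = 1 := by simp [Vm, Matrix.det_fin_three]; grobner
  obtain ⟨W, hW⟩ : ∃ W : Cfsg.SU 3 F 2, W.1.1 = Wm := ⟨⟨⟨Wm, hW1⟩, hmem _ (by
    ext i j; fin_cases i <;> fin_cases j <;>
      simp [Wm, Matrix.mul_apply, Fin.sum_univ_three, hωσ] <;> grobner) hW1⟩, rfl⟩
  obtain ⟨V, hV⟩ : ∃ V : Cfsg.SU 3 F 2, V.1.1 = Vm := ⟨⟨⟨Vm, hV1⟩, hmem _ (by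
    ext i j; fin_cases i <;> fin_cases j <;>
      simp [Vm, Matrix.mul_apply, Fin.sum_univ_three, hωσ] <;> grobner) hV1⟩, rfl⟩
  have aW : ∀ y, W.1.1 *ᵥ y = ![y 0 + y 1 + y 2, y 0 + w * y 1 + w ^ 2 * y 2,
      y 0 + w ^ 2 * y 1 + w * y 2] := fun y => by
    rw [hW]; funext r; fin_cases r <;> simp [Wm, Matrix.mulVec, dotProduct, Fin.sum_univ_three]
  have aV : ∀ y, V.1.1 *ᵥ y = ![y 0 + y 1 + w ^ 2 * y 2, y 0 + w * y 1 + w * y 2,
      w * y 0 + y 1 + w * y 2] := fun y => by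
    rw [hV]; funext r; fin_cases r <;> simp [Vm, Matrix.mulVec, dotProduct, Fin.sum_univ_three]
  set b0 := embF h (sh 0 (show 0 + 2 ≤ 3 by omega)) with hb0
  set b1 := embF h (sh 1 (show 1 + 2 ≤ 3 by omega)) with hb1
  have m0 : ∀ M, b0 M ∈ planes h := mem_planes0 h
  have m1 : ∀ M, b1 M ∈ planes h := mem_planes1 h
  have P := planes h |>.mul_mem (m1 J) (m0 J)
  have eWW : W * W = b1 J := su_ext fun y => by
    rw [su_mul_mulVec, aW, aW, hb1, sh1_apply]
    funext r; fin_cases r <;> simp [E.Jv] <;> grobner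
  have eVV : V * V = b1 (J * D) := su_ext fun y => by
    rw [su_mul_mulVec, aV, aV, hb1, map_mul, su_mul_mulVec, sh1_apply, sh1_apply]
    funext r; fin_cases r <;> simp [E.Jv, E.Dv] <;> grobner
  have eWD : W * b1 D * W⁻¹ = b1 J * b0 J := mul_inv_eq_iff_eq_mul.2 (su_ext fun y => by
    simp only [su_mul_mulVec, aW, hb0, hb1, sh0_apply, sh1_apply, E.Jv, E.Dv]
    funext r; fin_cases r <;> simp <;> grobner)
  have eWC : W * (b1 J * b0 J) * W⁻¹ = b1 D * b1 D := mul_inv_eq_iff_eq_mul.2 (su_ext fun y => by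
    simp only [su_mul_mulVec, aW, hb0, hb1, sh0_apply, sh1_apply, E.Jv, E.Dv]
    funext r; fin_cases r <;> simp <;> grobner)
  have eVD : V * b1 D * V⁻¹ = b1 D * b1 D * (b1 J * b0 J) := mul_inv_eq_iff_eq_mul.2 (su_ext fun y => by
    simp only [su_mul_mulVec, aV, hb0, hb1, sh0_apply, sh1_apply, E.Jv, E.Dv]
    funext r; fin_cases r <;> simp <;> grobner)
  have eVC : V * (b1 J * b0 J) * V⁻¹ = b0 D * b0 D * (b1 D * b1 D) * (b1 J * b0 J) :=
    mul_inv_eq_iff_eq_mul.2 (su_ext fun y => by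
      simp only [su_mul_mulVec, aV, hb0, hb1, sh0_apply, sh1_apply, E.Jv, E.Dv]
      funext r; fin_cases r <;> simp <;> grobner)
  refine ⟨W, V, ?_, fun H hH hWH hVH => ?_⟩
  · rintro g (rfl | rfl)
    · exact ⟨eWW ▸ m1 J, eWD ▸ P, eWC ▸ (planes h).mul_mem (m1 D) (m1 D)⟩
    · exact ⟨eVV ▸ m1 _, eVD ▸ (planes h).mul_mem ((planes h).mul_mem (m1 D) (m1 D)) P,
        eVC ▸ (planes h).mul_mem
          ((planes h).mul_mem ((planes h).mul_mem (m0 D) (m0 D)) ((planes h).mul_mem (m1 D) (m1 D))) P⟩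
  -- the diagonal elements
  have hdiag : ∀ a b c : F, a * b * c = 1 →
      ∃ g ∈ H, ∀ y, g.1.1 *ᵥ y = ![a * y 0, b * y 1, c * y 2] := by
    intro a b c habc
    have ha : a ≠ 0 := fun e => by simp [e] at habc
    have hc : c ≠ 0 := fun e => by simp [e] at habc
    obtain ⟨M1, hM1⟩ := exists_diag_two h (norm_four hF h ha)
    obtain ⟨M2, hM2⟩ := exists_diag_two h (x := σ c)
      (by rw [h.invol, mul_comm]; exact norm_four hF h hc)
    refine ⟨b0 M1 * b1 M2, H.mul_mem (hH (m0 M1)) (hH (m1 M2)), fun y => ?_⟩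
    simp only [su_mul_mulVec, hb0, hb1, sh0_apply, sh1_apply, hM1, hM2, h.invol]
    have hb : σ a * σ c = b := by
      linear_combination (-(σ a * σ c)) * habc + (c * σ c) * b * norm_four hF h ha + b * norm_four hF h hc
    funext r
    fin_cases r <;> simp
    rw [← hb]; ring
  refine top_of_transitive h H (fun M => hH (embF_congr h f01_eq M ▸ m0 M)) fun y hy => ?_
  have inv_to : ∀ g ∈ H, g.1.1 *ᵥ Pi.single 2 1 = y → ∃ g ∈ H, g.1.1 *ᵥ y = Pi.single 2 1 :=
    fun g hg e => ⟨g⁻¹, H.inv_mem hg, by rw [← e, su_inv_mulVec]⟩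
  rw [uh_three] at hy
  by_cases z0 : y 0 = 0 <;> by_cases z1 : y 1 = 0 <;> by_cases z2 : y 2 = 0
  all_goals (try rw [norm_four hF h z0] at hy)
  all_goals (try rw [norm_four hF h z1] at hy)
  all_goals (try rw [norm_four hF h z2] at hy)
  all_goals (try rw [z0] at hy)
  all_goals (try rw [z1] at hy)
  all_goals (try rw [z2] at hy)
  all_goals simp at hy
  · obtain ⟨g, hg, e⟩ := hdiag 1 (y 2)⁻¹ (y 2) (by field_simp)
    refine inv_to g hg ?_
    rw [e]; funext i; fin_cases i <;> simp [z0, z1]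
  · obtain ⟨g, hg, e⟩ := hdiag 1 (y 1) (y 1)⁻¹ (by field_simp)
    refine inv_to (g * b1 J) (H.mul_mem hg (hH (m1 J))) ?_
    rw [su_mul_mulVec, hb1, sh1_apply, e]
    funext i; fin_cases i <;> simp [z0, z2, E.Jv]
  · obtain ⟨g, hg, e⟩ := hdiag (y 0) 1 (y 0)⁻¹ (by field_simp)
    refine inv_to (g * (b0 J * b1 J)) (H.mul_mem hg (H.mul_mem (hH (m0 J)) (hH (m1 J)))) ?_
    rw [su_mul_mulVec, su_mul_mulVec, hb0, hb1, sh1_apply, sh0_apply, e]
    funext i; fin_cases i <;> simp [z1, z2, E.Jv]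
  · have hp : y 0 * y 1 * y 2 ≠ 0 := mul_ne_zero (mul_ne_zero z0 z1) z2
    obtain ⟨v, v0, v1, v2, hvv, hvH, hve⟩ : ∃ (v : Cfsg.SU 3 F 2) (v0 v1 v2 : F),
        y 0 * y 1 * y 2 = v0 * v1 * v2 ∧ v ∈ H ∧ v.1.1 *ᵥ Pi.single 2 1 = ![v0, v1, v2] := by
      rcases Q.units hF hp with e | e | e
      · refine ⟨W, 1, w ^ 2, w, by rw [e]; linear_combination -c3, hWH, ?_⟩
        rw [aW]; funext i; fin_cases i <;> simp
      · refine ⟨V, w ^ 2, w, w, by rw [e]; linear_combination (-w) * c3, hVH, ?_⟩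
        rw [aV]; funext i; fin_cases i <;> simp
      · refine ⟨W * V, w ^ 2, 1, 1, by rw [e]; ring, H.mul_mem hWH hVH, ?_⟩
        rw [su_mul_mulVec, aV, aW]
        funext i
        fin_cases i <;> simp <;> grobner
    have hv0 : v0 * v1 * v2 ≠ 0 := hvv ▸ hp
    obtain ⟨t, htH, et⟩ := hdiag (y 0 / v0) (y 1 / v1) (y 2 / v2) (by
      rw [div_mul_div_comm, div_mul_div_comm, hvv, div_self hv0])
    refine inv_to (t * v) (H.mul_mem htH hvH) ?_
    rw [su_mul_mulVec, hve, et]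
    simp only [ne_eq, mul_eq_zero, not_or] at hv0
    funext i
    fin_cases i <;> simp [hv0.1.1, hv0.1.2, hv0.2]

/-- A subgroup containing the planes and square roots is everything. -/
theorem top_of_sqrt [Finite F] (hF : Nat.card F = 2 ^ 2) (h : UFrob σ 2)
    (H : Subgroup (Cfsg.SU 3 F 2)) (hH : planes h ≤ H) (hsq : ∀ g, g * g ∈ H → g ∈ H) : H = ⊤ := by
  obtain ⟨w, Q⟩ := exists_quad hF h
  obtain ⟨D, J, E⟩ := exists_els h Q
  obtain ⟨W, V, hWV, top⟩ := exists_extra hF h Q E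
  exact top H hH (hsq W (hH (hWV W (Or.inl rfl)).1)) (hsq V (hH (hWV V (Or.inr rfl)).1))

/-- A homomorphism fixing the planes is the identity. -/
theorem eq_id_of_planes [Finite F] (hF : Nat.card F = 2 ^ 2) (h : UFrob σ 2)
    (β : Cfsg.SU 3 F 2 →* Cfsg.SU 3 F 2) (hβ : ∀ x ∈ planes h, β x = x) (x : Cfsg.SU 3 F 2) :
    β x = x := by
  obtain ⟨w, Q⟩ := exists_quad hF h
  obtain ⟨D, J, E⟩ := exists_els h Q
  obtain ⟨W, V, hWV, top⟩ := exists_extra hF h Q E
  have key : ∀ g, g = W ∨ g = V → β g = g := by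
    intro g hg
    obtain ⟨hsq, hD, hC⟩ := hWV g hg
    obtain ⟨k, hk⟩ : ∃ k, k = g⁻¹ * β g := ⟨_, rfl⟩
    have hgk : β g = g * k := by rw [hk]; group
    have comm : ∀ e, e ∈ planes h → g * e * g⁻¹ ∈ planes h → Commute k e := by
      intro e he hge
      have := hβ _ hge
      rw [map_mul, map_mul, map_inv, hβ e he, hgk] at this
      show k * e = e * k
      have e2 : g * (k * e * k⁻¹) * g⁻¹ = g * e * g⁻¹ := by rw [← this]; group
      exact mul_inv_eq_iff_eq_mul.1 (mul_left_cancel (mul_right_cancel e2))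
    have cD := comm _ (mem_planes1 h D) hD
    have cC := comm _ ((planes h).mul_mem (mem_planes1 h J) (mem_planes0 h J)) hC
    obtain ⟨c, hc⟩ : ∃ c, c = (k.1.1 *ᵥ Pi.single 0 1) 0 := ⟨_, rfl⟩
    have hw1 : w ≠ 1 := Q.ne_one
    have hw2 : w ^ 2 ≠ 1 := Q.sq_ne_one
    have hww : w ^ 2 ≠ w := fun e => hw1 (mul_left_cancel₀ Q.ne_zero (by linear_combination e))
    have hk0 : k.1.1 *ᵥ Pi.single 0 1 = Pi.single 0 c := by
      have e := congrArg (fun g : Cfsg.SU 3 F 2 => g.1.1 *ᵥ Pi.single 0 1) cD.eq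
      simp only [su_mul_mulVec] at e
      rw [show (embF h (sh 1 (show 1 + 2 ≤ 3 by omega)) D).1.1 *ᵥ Pi.single 0 (1 : F) = Pi.single 0 1
        from sh_fix h 1 _ D (Or.inl (by simp)) 1, sh1_apply] at e
      generalize k.1.1 *ᵥ Pi.single 0 1 = v at e hc ⊢
      have e1 := congrFun e 1
      have e2 := congrFun e 2
      simp [E.Dv] at e1 e2
      have v1 : v 1 = 0 := by
        by_contra hne
        exact hw1 (mul_right_cancel₀ hne (by linear_combination -e1))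
      have v2 : v 2 = 0 := by
        by_contra hne
        exact hw2 (mul_right_cancel₀ hne (by linear_combination -e2))
      funext r
      fin_cases r <;> simp [hc, v1, v2]
    have step : ∀ a b : Fin 3,
        (embF h (sh 1 (show 1 + 2 ≤ 3 by omega)) J * embF h (sh 0 (show 0 + 2 ≤ 3 by omega)) J).1.1 *ᵥ
          Pi.single a 1 = Pi.single b (1 : F) →
        k.1.1 *ᵥ Pi.single a 1 = Pi.single a c → k.1.1 *ᵥ Pi.single b 1 = Pi.single b c := by
      intro a b hab ha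
      rw [← hab, ← su_mul_mulVec, cC.eq, su_mul_mulVec, ha, su_single, hab, ← Pi.single_smul,
        smul_eq_mul, mul_one]
    have hC' : ∀ a b : Fin 3, b.val = (a.val + 2) % 3 →
        (embF h (sh 1 (show 1 + 2 ≤ 3 by omega)) J * embF h (sh 0 (show 0 + 2 ≤ 3 by omega)) J).1.1 *ᵥ
          Pi.single a 1 = Pi.single b (1 : F) := by
      intro a b hab
      rw [su_mul_mulVec, sh0_apply, sh1_apply]
      funext r
      fin_cases a <;> fin_cases b <;> simp at hab <;> fin_cases r <;> simp [E.Jv]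
    have hk2 : k.1.1 *ᵥ Pi.single 2 1 = Pi.single 2 c := step 0 2 (hC' 0 2 rfl) hk0
    have hk1 : k.1.1 *ᵥ Pi.single 1 1 = Pi.single 1 c := step 2 1 (hC' 2 1 rfl) hk2
    have hkx : ∀ v, k.1.1 *ᵥ v = c • v := fun v => by
      rw [← Finset.univ_sum_single v, mulVec_sum, Finset.smul_sum]
      refine Finset.sum_congr rfl fun j _ => ?_
      rw [su_single]
      fin_cases j <;> simp [hk0, hk1, hk2, ← Pi.single_smul, mul_comm c]
    have e2 := hβ _ hsq
    rw [map_mul, hgk] at e2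
    have hcc : c * c = 1 := by
      have := congrArg (fun g : Cfsg.SU 3 F 2 => g.1.1 *ᵥ Pi.single 0 1) e2
      simp only [su_mul_mulVec, hkx, mulVec_smul, smul_smul] at this
      refine smul_left_injective F (m := g.1.1 *ᵥ (g.1.1 *ᵥ Pi.single 0 1)) (fun e0 => ?_)
        (show (c * c) • _ = (1 : F) • _ by rw [one_smul]; exact this)
      have := congrArg (fun v => g⁻¹.1.1 *ᵥ v) e0
      rw [su_inv_mulVec, mulVec_zero] at this
      have := congrArg (fun v => g⁻¹.1.1 *ᵥ v) this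
      rw [su_inv_mulVec, mulVec_zero] at this
      simpa using congrFun this 0
    have hc1 : c = 1 := by
      have : (c - 1) * (c - 1) = 0 := by linear_combination hcc + (1 - c) * Q.two
      exact sub_eq_zero.1 (mul_self_eq_zero.1 this)
    rw [hgk, show k = 1 from su_ext fun v => by rw [hkx, hc1, one_smul, su_one_mulVec], mul_one]
  have hle := top (β.eqLocus (MonoidHom.id _)) (fun x hx => hβ x hx) (key W (Or.inl rfl))
    (key V (Or.inr rfl))
  exact (show x ∈ β.eqLocus (MonoidHom.id _) from hle ▸ Subgroup.mem_top x)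

end CfsgLib.Phan.Two
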