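import Cfsg.Agent.Lib.Phan.Two.Frame
import Cfsg.Agent.Lib.Phan.Two.Full
import Cfsg.Agent.Lib.Phan.Rigid

/-!
Over the field with four elements: the three subgroups are images of the blocks, and a homomorphism
agreeing on two blocks agrees on three coordinates.
-/

set_option autoImplicit false

namespace CfsgLib.Phan.Two

open Matrix CfsgLib.Classical CfsgLib.Classical.Unitary CfsgLib.Pres.SU CfsgLib.Pres.SU.Chain

variable {F : Type*} [Field F] [Finite F] {σ : F →+* F} {w : F} {h : UFrob σ 2} {G : Type*} [Group G]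

/-- Scalar kernels are trivial. -/
theorem injective_of_scalar (hF : Nat.card F = 2 ^ 2) (h : UFrob σ 2) (π : Cfsg.SU 4 F 2 →* G)
    (hπ : ∀ y, π y = 1 → ∃ l : F, ∀ x, y.1.1 *ᵥ x = l • x) : Function.Injective π := by
  refine (injective_iff_map_eq_one π).2 fun y hy => ?_
  obtain ⟨l, hl⟩ := hπ y hy
  have e : y.1.1 = l • (1 : Matrix (Fin 4) (Fin 4) F) :=
    Matrix.ext_iff_mulVec.2 fun x => by rw [hl, smul_mulVec, one_mulVec]
  have hd : y.1.1.det = 1 := y.1.2
  rw [e, det_smul, det_one, mul_one, Fintype.card_fin] at hd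
  have hl0 : l ≠ 0 := fun e0 => by simp [e0] at hd
  have h3 := norm_four hF h hl0
  rw [h.pow] at h3
  have hl1 : l = 1 := by linear_combination hd - l * h3
  exact su_ext fun x => by rw [hl, hl1, one_smul, su_one_mulVec]

set_option maxHeartbeats 800000 in
/-- The three subgroups are images of the three blocks. -/
theorem exists_blocks (hF : Nat.card F = 2 ^ 2) (h : UFrob σ 2)
    (π : Cfsg.SU 4 F 2 →* G) (hπ : ∀ g, π g = 1 → ∃ l : F, ∀ x, g.1.1 *ᵥ x = l • x)
    {κ0 κ1 : Cfsg.SU 3 F 2 →* G} {U0 U1 U2 : Subgroup G} (C0 : IsChart h κ0 U0 U1)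
    (C1 : IsChart h κ1 U1 U2)
    (hag : ∀ M, κ1 (embF h (sh 0 (show 0 + 2 ≤ 3 by omega)) M) =
      κ0 (embF h (sh 1 (show 1 + 2 ≤ 3 by omega)) M))
    (hcomm : ∀ x ∈ U0, ∀ y ∈ U2, x * y = y * x) (r0 : κ0.range ≤ π.range)
    (r1 : κ1.range ≤ π.range) :
    ∃ π' : Cfsg.SU 4 F 2 →* G, π'.range = π.range ∧
      (∀ g, π' g = 1 → ∃ l : F, ∀ x, g.1.1 *ᵥ x = l • x) ∧
      (π'.comp (embF h (sh 0 (show 0 + 2 ≤ 4 by omega)))).range = U0 ∧
      (π'.comp (embF h (sh 1 (show 1 + 2 ≤ 4 by omega)))).range = U1 ∧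
      (π'.comp (embF h (sh 2 (show 2 + 2 ≤ 4 by omega)))).range = U2 := by
  obtain ⟨w, Q⟩ := exists_quad hF h
  obtain ⟨D, J, E⟩ := exists_els h Q
  obtain ⟨rc, rJD, rJD'⟩ := E.rels (h := h) Q
  have inj := injective_of_scalar hF h π hπ
  let b0 := embF h (sh 0 (show 0 + 2 ≤ 3 by omega))
  let b1 := embF h (sh 1 (show 1 + 2 ≤ 3 by omega))
  let ν : Fin 3 → Cfsg.SU 2 F 2 →* G := ![κ0.comp b0, κ0.comp b1, κ1.comp b1]
  let U : Fin 3 → Subgroup G := ![U0, U1, U2]
  have hU : ∀ k, (ν k).range = U k := fun k => by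
    fin_cases k <;> [exact C0.left; exact C0.right; exact C1.right]
  have νinj : ∀ k, Function.Injective (ν k) := fun k => by
    fin_cases k <;> [exact C0.inj 0 _; exact C0.inj 1 _; exact C1.inj 1 _]
  have νr : ∀ k M, ν k M ∈ π.range := fun k M => by
    fin_cases k <;> [exact r0 ⟨_, rfl⟩; exact r0 ⟨_, rfl⟩; exact r1 ⟨_, rfl⟩]
  have h02 : ∀ a b, Commute (ν 0 a) (ν 2 b) := fun a b =>
    hcomm _ ((hU 0).le ⟨a, rfl⟩) _ ((hU 2).le ⟨b, rfl⟩)
  choose x hx using fun k => νr k D
  choose y hy using fun k => νr k J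
  have e01 : ν 1 D = κ1 (b0 D) := (hag D).symm
  have eJ1 : ν 1 J = κ1 (b0 J) := (hag J).symm
  have W : Weyl x y :=
    { x3 := fun k => inj (by rw [map_pow, hx, ← map_pow, E.D3, map_one, map_one])
      y2 := fun k => inj (by rw [map_mul, hy, ← map_mul, E.J2, map_one, map_one])
      comm := by
        have c01 : Commute (x 0) (x 1) := inj (by
          rw [map_mul, map_mul, hx, hx]; exact (rc.map κ0).eq)
        have c02 : Commute (x 0) (x 2) := inj (by
          rw [map_mul, map_mul, hx, hx]; exact (h02 D D).eq)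
        have c12 : Commute (x 1) (x 2) := inj (by
          rw [map_mul, map_mul, hx, hx, e01]; exact (rc.map κ1).eq)
        intro j k
        fin_cases j <;> fin_cases k <;>
          first | exact Commute.refl _ | exact c01 | exact c01.symm | exact c02 | exact c02.symm |
            exact c12 | exact c12.symm
      ne := fun e => by
        have : ν 0 D = ν 0 1 := by rw [← hx, e, map_one, map_one]
        have := congrArg (fun M : Cfsg.SU 2 F 2 => M.1.1 0 0) (νinj 0 this)
        simp [E.Dv] at this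
        exact Q.ne_one this
      r00 := inj (by rw [map_mul, map_mul, map_inv, map_inv, hx, hy, ← map_inv, ← map_mul, ← map_mul,
        E.flip, map_inv])
      r01 := inj (by
        rw [map_mul, map_mul, map_inv, map_mul, hx, hx, hy]
        have := congrArg κ0 rJD
        simp only [map_mul, map_inv] at this
        exact this)
      r02 := inj (by rw [map_mul, map_mul, hx, hy]; exact (h02 J D).eq)
      r10 := inj (by
        rw [map_mul, map_mul, map_inv, map_mul, hx, hx, hy]
        have := congrArg κ0 rJD'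
        simp only [map_mul, map_inv] at this
        exact this)
      r11 := inj (by rw [map_mul, map_mul, map_inv, map_inv, hx, hy, ← map_inv, ← map_mul, ← map_mul,
        E.flip, map_inv])
      r12 := inj (by
        rw [map_mul, map_mul, map_inv, map_mul, hx, hx, hy, e01, eJ1]
        have := congrArg κ1 rJD
        simp only [map_mul, map_inv] at this
        exact this)
      r20 := inj (by rw [map_mul, map_mul, hx, hy]; exact (h02 D J).eq.symm)
      r21 := inj (by
        rw [map_mul, map_mul, map_inv, map_mul, hx, hx, hy, e01]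
        have := congrArg κ1 rJD'
        simp only [map_mul, map_inv] at this
        exact this)
      r22 := inj (by rw [map_mul, map_mul, map_inv, map_inv, hx, hy, ← map_inv, ← map_mul, ← map_mul,
        E.flip, map_inv]) }
  obtain ⟨g, hg⟩ := W.exists_frame hF h Q
  let π' := π.comp (MulAut.conj g).toMonoidHom
  have hπ' : ∀ y, π' y = 1 → ∃ l : F, ∀ x, y.1.1 *ᵥ x = l • x := fun y hy =>
    ⟨1, fun x => by
      have : y = 1 := (inj.comp (MulAut.conj g).injective) (hy.trans (map_one π').symm)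
      rw [this, su_one_mulVec, one_smul]⟩
  have finish : ∀ (k : Fin 3) (hk : k.val + 2 ≤ 4),
      (π'.comp (embF h (sh k.val hk))).range = U k := by
    intro k hk
    have mem : ∀ z : Cfsg.SU 4 F 2,
        (∀ j : Fin 4, j.val < k.val ∨ k.val + 2 ≤ j.val →
          z.1.1 *ᵥ (g.1.1 *ᵥ Pi.single j 1) = g.1.1 *ᵥ Pi.single j 1) →
        π z ∈ (π'.comp (embF h (sh k.val hk))).range := by
      intro z hz
      obtain ⟨M, hM⟩ := mem_range_sh h k.val hk (g⁻¹ * z * g) fun j hj => by
        rw [su_mul_mulVec, su_mul_mulVec, hz j hj, su_inv_mulVec]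
      refine ⟨M, ?_⟩
      show π (MulAut.conj g (embF h (sh k.val hk) M)) = π z
      rw [hM, MulAut.conj_apply]
      congr 1
      group
    have htop := E.top Q hF ((π'.comp (embF h (sh k.val hk))).range.comap (ν k))
      (by rw [Subgroup.mem_comap, ← hx]; exact mem _ fun j hj => (hg k j hj).1)
      (by rw [Subgroup.mem_comap, ← hy]; exact mem _ fun j hj => (hg k j hj).2)
    have hle : (ν k).range ≤ (π'.comp (embF h (sh k.val hk))).range := by
      rintro _ ⟨M, rfl⟩
      exact (show M ∈ (π'.comp (embF h (sh k.val hk))).range.comap (ν k) from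
        htop ▸ Subgroup.mem_top M)
    rw [← hU]
    have : Finite (π'.comp (embF h (sh k.val hk))).range :=
      Finite.of_surjective _ (MonoidHom.rangeRestrict_surjective _)
    refine (Subgroup.eq_of_le_of_card_ge hle ?_).symm
    calc Nat.card (π'.comp (embF h (sh k.val hk))).range ≤ Nat.card (Cfsg.SU 2 F 2) :=
          Nat.card_le_card_of_surjective _ (MonoidHom.rangeRestrict_surjective _)
      _ = Nat.card (ν k).range := Nat.card_congr (MonoidHom.ofInjective (νinj k)).toEquiv
  refine ⟨π', ?_, hπ', finish 0 (by simp), finish 1 (by simp), finish 2 (by simp)⟩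
  exact le_antisymm (by rintro _ ⟨z, rfl⟩; exact ⟨_, rfl⟩) (by
    rintro _ ⟨z, rfl⟩
    exact ⟨(MulAut.conj g).symm z, congrArg π ((MulAut.conj g).apply_symm_apply z)⟩)

/-- A homomorphism agreeing on two consecutive blocks agrees on the three coordinates. -/
theorem det_three (hF : Nat.card F = 2 ^ 2) (h : UFrob σ 2) (f : Cfsg.SU 4 F 2 →* G)
    (hf : Function.Injective f) (κ : Cfsg.SU 3 F 2 →* G) (hr : κ.range ≤ f.range) (a : ℕ)
    (ha : a + 3 ≤ 4)
    (h0 : ∀ M, f (embF h (sh a (show a + 2 ≤ 4 by omega)) M) =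
      κ (embF h (sh 0 (show 0 + 2 ≤ 3 by omega)) M))
    (h1 : ∀ M, f (embF h (sh (a + 1) (show a + 1 + 2 ≤ 4 by omega)) M) =
      κ (embF h (sh 1 (show 1 + 2 ≤ 3 by omega)) M)) :
    ∀ M, f (embF h (sh a ha) M) = κ M := by
  obtain ⟨w, Q⟩ := exists_quad hF h
  obtain ⟨D, J, E⟩ := exists_els h Q
  choose β hβ using fun M : Cfsg.SU 3 F 2 => hr ⟨M, rfl⟩
  let β' : Cfsg.SU 3 F 2 →* Cfsg.SU 4 F 2 :=
    { toFun := β
      map_one' := hf (by rw [hβ, map_one, map_one])
      map_mul' := fun x y => hf (by rw [hβ, map_mul, map_mul, hβ, hβ]) }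
  have hE : ∀ x ∈ planes h, β x = embF h (sh a ha) x := by
    intro x hx
    refine (show x ∈ β'.eqLocus (embF h (sh a ha)) from ?_)
    refine (sup_le ?_ ?_ : planes h ≤ _) hx
    · rintro _ ⟨M, rfl⟩
      refine hf ((hβ _).trans ?_)
      rw [← h0, embF_sh_sh, embF_congr h (sh_congr (Nat.add_zero a) _)]
    · rintro _ ⟨M, rfl⟩
      refine hf ((hβ _).trans ?_)
      rw [← h1, embF_sh_sh]
  -- the scalar element
  obtain ⟨z, hz, hzE⟩ : ∃ z : Cfsg.SU 3 F 2, (∀ v, z.1.1 *ᵥ v = w • v) ∧ z ∈ planes h := by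
    refine ⟨embF h (sh 0 (show 0 + 2 ≤ 3 by omega)) D * (embF h (sh 1 (show 1 + 2 ≤ 3 by omega)) D *
      embF h (sh 1 (show 1 + 2 ≤ 3 by omega)) D), fun v => ?_,
      (planes h).mul_mem (mem_planes0 h D) ((planes h).mul_mem (mem_planes1 h D) (mem_planes1 h D))⟩
    simp only [su_mul_mulVec, sh0_apply, sh1_apply, E.Dv]
    have c3 := Q.cube
    funext r
    fin_cases r <;> simp <;> grobner
  have hzc : ∀ x, Commute x z := fun x => su_ext fun v => by
    rw [su_mul_mulVec, su_mul_mulVec, hz, hz, mulVec_smul]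
  obtain ⟨l, hl⟩ : ∃ l : Fin 4, l.val < a ∨ a + 3 ≤ l.val := by
    rcases Nat.eq_zero_or_pos a with rfl | hp
    · exact ⟨3, Or.inr le_rfl⟩
    · exact ⟨0, Or.inl hp⟩
  have hline : ∀ x, ∃ c : F, (β x).1.1 *ᵥ Pi.single l 1 = Pi.single l c := by
    intro x
    refine ⟨((β x).1.1 *ᵥ Pi.single l 1) l, funext fun j => ?_⟩
    rcases eq_or_ne j l with rfl | hj
    · rw [Pi.single_eq_same]
    rw [Pi.single_eq_of_ne hj]
    obtain ⟨b, rfl⟩ : ∃ b : Fin 3, sh a ha b = j :=
      ⟨⟨j.val - a, by
        have := Fin.val_ne_of_ne hj; omega⟩, Fin.ext (by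
        have := Fin.val_ne_of_ne hj; simp; omega)⟩
    have e : (embF h (sh a ha) z).1.1 *ᵥ ((β x).1.1 *ᵥ Pi.single l 1) =
        (β x).1.1 *ᵥ Pi.single l 1 := by
      rw [← hE z hzE, ← su_mul_mulVec,
        show β z * β x = β x * β z from (β'.map_mul z x).symm.trans
          ((congrArg β (hzc x).eq.symm).trans (β'.map_mul x z)),
        su_mul_mulVec, hE z hzE, sh_fix h a ha z hl 1]
    have e1 := congrFun e (sh a ha b)
    rw [embF_on, hz, Pi.smul_apply, smul_eq_mul] at e1
    exact eq_zero_of_mul_eq_self_left Q.ne_one e1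
  -- the line is fixed
  have hfix : ∀ x, (β x).1.1 *ᵥ Pi.single l 1 = Pi.single l 1 := by
    have htop := top_of_sqrt hF h ((MulAction.stabilizer (Cfsg.SU 4 F 2)
      (Pi.single l 1 : Fin 4 → F)).comap β') (fun x hx => by
        show (β x).1.1 *ᵥ Pi.single l 1 = Pi.single l 1
        rw [hE x hx, sh_fix h a ha x hl 1]) (fun x hx => by
        change (β (x * x)).1.1 *ᵥ Pi.single l 1 = Pi.single l 1 at hx
        show (β x).1.1 *ᵥ Pi.single l 1 = Pi.single l 1
        obtain ⟨c, hc⟩ := hline x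
        rw [show β (x * x) = β x * β x from β'.map_mul x x, su_mul_mulVec, hc, su_single, hc,
          ← Pi.single_smul, smul_eq_mul] at hx
        have hcc : c * c = 1 := Pi.single_injective (M := fun _ : Fin 4 => F) l hx
        have : (c - 1) * (c - 1) = 0 := by linear_combination hcc + (1 - c) * Q.two
        rw [hc, sub_eq_zero.1 (mul_self_eq_zero.1 this)])
    exact fun x => (show x ∈ (MulAction.stabilizer (Cfsg.SU 4 F 2)
      (Pi.single l 1 : Fin 4 → F)).comap β' from htop ▸ Subgroup.mem_top x)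
  choose γ hγ using fun x => mem_range_sh h a ha (β x) fun j hj => by
    rw [show j = l from Fin.ext (by omega)]
    exact hfix x
  let γ' : Cfsg.SU 3 F 2 →* Cfsg.SU 3 F 2 :=
    { toFun := γ
      map_one' := embF_injective h (sh a ha) (by rw [hγ, map_one]; exact β'.map_one)
      map_mul' := fun x y => embF_injective h (sh a ha) (by
        rw [hγ, map_mul, hγ, hγ]; exact β'.map_mul x y) }
  intro M
  have := eq_id_of_planes hF h γ' (fun x hx => embF_injective h (sh a ha) ((hγ x).trans (hE x hx))) M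
  rw [← hβ M, ← hγ M]
  exact congrArg (fun t => f (embF h (sh a ha) t)) this.symm

end CfsgLib.Phan.Two
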