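import Cfsg.Agent.Lib.Phan.Two.Basic
import Cfsg.Agent.Lib.Pres.SU.Step

/-!
Three commuting elements of order three of `SU 4` over the field with four elements, permuted by
three involutions as the symmetric group on four points: the frame in which they are diagonal.
-/

set_option autoImplicit false

namespace CfsgLib.Phan.Two

open Matrix CfsgLib.Classical CfsgLib.Classical.Unitary CfsgLib.Pres.SU CfsgLib.Pres.SU.Chain

/-- Triples of exponents. -/
abbrev Tri := ZMod 3 × ZMod 3 × ZMod 3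

/-- The action of the first involution. -/
def act0 (p : Tri) : Tri := (-p.1, p.1 + p.2.1, p.2.2)

/-- The action of the second involution. -/
def act1 (p : Tri) : Tri := (p.1 + p.2.1, -p.2.1, p.2.1 + p.2.2)

/-- The action of the third involution. -/
def act2 (p : Tri) : Tri := (p.1, p.2.1 + p.2.2, -p.2.2)

/-- The four coordinate triples. -/
def pt (e : ZMod 3) : Fin 4 → Tri := ![(e, 0, 0), (-e, e, 0), (0, -e, e), (0, 0, -e)]

/-- A piece of the orbit. -/
def orbitPart (p : Tri) : Finset Tri :=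
  {p, act0 p, act1 p, act2 p, act0 (act1 p), act0 (act2 p), act1 (act0 p), act1 (act2 p),
    act2 (act1 p), act0 (act1 (act2 p)), act2 (act1 (act0 p)), act1 (act0 (act2 p)),
    act1 (act2 (act1 p)), act0 (act2 (act1 p))}

theorem orbit_cases : ∀ p : Tri, p ≠ 0 →
    (∃ e : ZMod 3, e ≠ 0 ∧ ∃ j, p = pt e j) ∨ 5 ≤ (orbitPart p).card := by decide

theorem pt_step : ∀ e : ZMod 3, act0 (pt e 0) = pt e 1 ∧ act0 (pt e 1) = pt e 0 ∧
    act1 (pt e 1) = pt e 2 ∧ act1 (pt e 2) = pt e 1 ∧ act2 (pt e 2) = pt e 3 ∧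
    act2 (pt e 3) = pt e 2 ∧ act0 (pt e 2) = pt e 2 ∧ act0 (pt e 3) = pt e 3 ∧
    act1 (pt e 0) = pt e 0 ∧ act1 (pt e 3) = pt e 3 ∧ act2 (pt e 0) = pt e 0 ∧
    act2 (pt e 1) = pt e 1 := by decide

theorem pt_inj : ∀ e : ZMod 3, e ≠ 0 → ∀ i j, pt e i = pt e j → i = j := by decide

variable {F : Type*} [Field F] {σ : F →+* F} {w : F} {h : UFrob σ 2}

/-- Powers of the root. -/
def pw (w : F) (a : ZMod 3) : F := w ^ a.val

theorem pw_zero (w : F) : pw w 0 = 1 := by simp [pw]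

theorem pw_add (Q : Quad σ w) (a b : ZMod 3) : pw w (a + b) = pw w a * pw w b := by
  have e : ∀ a b : ZMod 3, (a.val + b.val) % 3 = (a + b).val := by decide
  rw [pw, pw, pw, ← pow_add, ← e a b]
  conv_rhs => rw [← Nat.div_add_mod (a.val + b.val) 3, pow_add, pow_mul, Q.cube, one_pow, one_mul]

theorem pw_inj (Q : Quad σ w) {a : ZMod 3} (ha : pw w a = 1) : a = 0 := by
  fin_cases a
  · rfl
  · exact absurd (show w = 1 by simpa using (show w ^ 1 = 1 from ha)) Q.ne_one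
  · exact absurd (show w ^ 2 = 1 from ha) Q.sq_ne_one

theorem pw_sum (Q : Quad σ w) (a : ZMod 3) :
    1 + pw w a + pw w a * pw w a = if a = 0 then 1 else 0 := by
  fin_cases a
  · show 1 + pw w 0 + pw w 0 * pw w 0 = (if (0 : ZMod 3) = 0 then (1 : F) else 0)
    rw [pw_zero, if_pos rfl]
    linear_combination Q.two
  · show 1 + w ^ 1 + w ^ 1 * w ^ 1 = (if (1 : ZMod 3) = 0 then (1 : F) else 0)
    rw [if_neg (by decide)]
    linear_combination Q.rel
  · show 1 + w ^ 2 + w ^ 2 * w ^ 2 = (if (2 : ZMod 3) = 0 then (1 : F) else 0)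
    rw [if_neg (by decide)]
    linear_combination Q.rel + w * Q.cube

theorem pw_conj (Q : Quad σ w) (a : ZMod 3) : σ (pw w a) = pw w (-a) := by
  have e : ∀ a : ZMod 3, -a = a + a := by decide
  rw [e, pw_add Q, pw, map_pow, Q.conj, ← pow_mul, ← pow_add]
  congr 1
  omega

/-- The projection to an eigenspace. -/
def proj (w : F) (x : Cfsg.SU 4 F 2) (a : ZMod 3) (v : Fin 4 → F) : Fin 4 → F :=
  v + pw w (-a) • (x.1.1 *ᵥ v) + (pw w (-a) * pw w (-a)) • (x.1.1 *ᵥ (x.1.1 *ᵥ v))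

theorem proj_add (x : Cfsg.SU 4 F 2) (a : ZMod 3) (v v' : Fin 4 → F) :
    proj w x a (v + v') = proj w x a v + proj w x a v' := by
  simp only [proj, mulVec_add, smul_add]; abel

theorem proj_smul (x : Cfsg.SU 4 F 2) (a : ZMod 3) (c : F) (v : Fin 4 → F) :
    proj w x a (c • v) = c • proj w x a v := by
  simp only [proj, mulVec_smul, smul_add, smul_smul]
  rw [mul_comm c (pw w (-a)), mul_comm c (pw w (-a) * _)]

theorem proj_zero (x : Cfsg.SU 4 F 2) (a : ZMod 3) : proj w x a 0 = 0 := by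
  simp [proj]

theorem proj_eig (Q : Quad σ w) {x : Cfsg.SU 4 F 2} {b : ZMod 3} {v : Fin 4 → F}
    (hv : x.1.1 *ᵥ v = pw w b • v) (a : ZMod 3) :
    proj w x a v = if b = a then v else 0 := by
  simp only [proj, hv, mulVec_smul, smul_smul]
  rw [← pw_add Q, show pw w (-a) * pw w (-a) * (pw w b * pw w b) =
    pw w (-a + b) * pw w (-a + b) by rw [pw_add Q]; ring]
  calc v + pw w (-a + b) • v + (pw w (-a + b) * pw w (-a + b)) • v
      = (1 + pw w (-a + b) + pw w (-a + b) * pw w (-a + b)) • v := by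
        rw [add_smul, add_smul, one_smul]
    _ = _ := by
      rw [pw_sum Q]
      simp only [neg_add_eq_zero, eq_comm (a := a)]
      split_ifs <;> simp

theorem proj_val (Q : Quad σ w) {x : Cfsg.SU 4 F 2} (hx : x ^ 3 = 1) (a : ZMod 3) (v : Fin 4 → F) :
    x.1.1 *ᵥ proj w x a v = pw w a • proj w x a v := by
  have h3 : x.1.1 *ᵥ (x.1.1 *ᵥ (x.1.1 *ᵥ v)) = v := by
    rw [← su_mul_mulVec, ← su_mul_mulVec, show x * x * x = x ^ 3 by rw [pow_succ, pow_two], hx,
      su_one_mulVec]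
  have e1 : pw w a * pw w (-a) = 1 := by rw [← pw_add Q, add_neg_cancel, pw_zero]
  have e2 : pw w a = pw w (-a) * pw w (-a) := by
    rw [← pw_add Q]; congr 1; exact (by decide : ∀ a : ZMod 3, a = -a + -a) a
  simp only [proj, mulVec_add, mulVec_smul, h3, smul_add, smul_smul]
  rw [e1, one_smul, ← mul_assoc, e1, one_mul, e2]
  abel

theorem proj_sum (Q : Quad σ w) (x : Cfsg.SU 4 F 2) (v : Fin 4 → F) :
    proj w x 0 v + proj w x 1 v + proj w x 2 v = v := by
  have e2 : -(1 : ZMod 3) = 2 := by decide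
  have e1 : -(2 : ZMod 3) = 1 := by decide
  simp only [proj, e1, e2, neg_zero]
  have c1 : pw w (0 : ZMod 3) = 1 := pw_zero w
  have c2 : pw w (1 : ZMod 3) = w := by simp [pw, ZMod.val_one]
  have c3 : pw w (2 : ZMod 3) = w ^ 2 := rfl
  rw [c1, c2, c3]
  have := Q.two
  have := Q.rel
  have := Q.cube
  funext r
  simp only [Pi.add_apply, Pi.smul_apply, smul_eq_mul]
  grobner

/-- A joint eigenvector. -/
def Eig (w : F) (x : Fin 3 → Cfsg.SU 4 F 2) (p : Tri) (v : Fin 4 → F) : Prop :=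
  (x 0).1.1 *ᵥ v = pw w p.1 • v ∧ (x 1).1.1 *ᵥ v = pw w p.2.1 • v ∧
    (x 2).1.1 *ᵥ v = pw w p.2.2 • v

/-- The joint projection. -/
def projP (w : F) (x : Fin 3 → Cfsg.SU 4 F 2) (p : Tri) (v : Fin 4 → F) : Fin 4 → F :=
  proj w (x 0) p.1 (proj w (x 1) p.2.1 (proj w (x 2) p.2.2 v))

variable {x : Fin 3 → Cfsg.SU 4 F 2}

theorem projP_add (p : Tri) (v v' : Fin 4 → F) :
    projP w x p (v + v') = projP w x p v + projP w x p v' := by simp only [projP, proj_add]

theorem projP_smul (p : Tri) (c : F) (v : Fin 4 → F) :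
    projP w x p (c • v) = c • projP w x p v := by simp only [projP, proj_smul]

theorem projP_sum (p : Tri) {ι : Type*} (s : Finset ι) (v : ι → Fin 4 → F) :
    projP w x p (∑ j ∈ s, v j) = ∑ j ∈ s, projP w x p (v j) := by
  classical
  induction s using Finset.induction_on with
  | empty => simp [projP, proj_zero]
  | insert a s ha ih => rw [Finset.sum_insert ha, Finset.sum_insert ha, projP_add, ih]

theorem projP_eig (Q : Quad σ w) {q : Tri} {v : Fin 4 → F} (hv : Eig w x q v) (p : Tri) :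
    projP w x p v = if q = p then v else 0 := by
  obtain ⟨h0, h1, h2⟩ := hv
  rw [projP, proj_eig Q h2]
  by_cases e2 : q.2.2 = p.2.2
  · rw [if_pos e2, proj_eig Q h1]
    by_cases e1 : q.2.1 = p.2.1
    · rw [if_pos e1, proj_eig Q h0]
      by_cases e0 : q.1 = p.1
      · rw [if_pos e0, if_pos (Prod.ext e0 (Prod.ext e1 e2))]
      · rw [if_neg e0, if_neg fun e => e0 (congrArg Prod.fst e)]
    · rw [if_neg e1, proj_zero, if_neg fun e => e1 (congrArg (fun t : Tri => t.2.1) e)]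
  · rw [if_neg e2, proj_zero, proj_zero, if_neg fun e => e2 (congrArg (fun t : Tri => t.2.2) e)]

theorem card_le_four (Q : Quad σ w) (s : Finset Tri) (hs : ∀ p ∈ s, ∃ v, v ≠ 0 ∧ Eig w x p v) :
    s.card ≤ 4 := by
  choose v hv0 hv using fun p : s => hs p p.2
  have hli : LinearIndependent F v := by
    rw [Fintype.linearIndependent_iff]
    intro c hc p
    have := congrArg (projP w x p) hc
    rw [projP_sum, show projP w x (p : Tri) (0 : Fin 4 → F) = 0 by simp [projP, proj_zero],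
      Finset.sum_eq_single p (fun q _ hq => by
        rw [projP_smul, projP_eig Q (hv q), if_neg fun e => hq (Subtype.ext e), smul_zero])
        (fun hp => absurd (Finset.mem_univ p) hp),
      projP_smul, projP_eig Q (hv p), if_pos rfl] at this
    exact (smul_eq_zero.1 this).resolve_right (hv0 p)
  simpa using hli.fintype_card_le_finrank

theorem comm_mulVec' {g k : Cfsg.SU 4 F 2} (e : Commute g k) (v : Fin 4 → F) :
    g.1.1 *ᵥ (k.1.1 *ᵥ v) = k.1.1 *ᵥ (g.1.1 *ᵥ v) := by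
  rw [← su_mul_mulVec, e.eq, su_mul_mulVec]

theorem exists_eig (Q : Quad σ w) {x : Cfsg.SU 4 F 2} (hx : x ^ 3 = 1) {v : Fin 4 → F} (hv : v ≠ 0) :
    ∃ (a : ZMod 3) (u : Fin 4 → F), u ≠ 0 ∧ x.1.1 *ᵥ u = pw w a • u ∧
      ∀ (g : Cfsg.SU 4 F 2) (c : F), Commute g x → g.1.1 *ᵥ v = c • v → g.1.1 *ᵥ u = c • u := by
  obtain ⟨a, ha⟩ : ∃ a, proj w x a v ≠ 0 := by
    by_contra hh
    push Not at hh
    exact hv (by rw [← proj_sum Q x v, hh, hh, hh]; simp)
  refine ⟨a, _, ha, proj_val Q hx a v, fun g c hg hc => ?_⟩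
  simp only [proj, mulVec_add, mulVec_smul, comm_mulVec' hg, hc, smul_add, smul_smul]
  rw [mul_comm c (pw w (-a)), mul_comm c (pw w (-a) * _)]

theorem eig_step {p q : Tri} {y : Cfsg.SU 4 F 2} {v : Fin 4 → F}
    {c : Fin 3 → Cfsg.SU 4 F 2} (hc : ∀ j, x j * y = y * c j)
    (h0 : (c 0).1.1 *ᵥ v = pw w q.1 • v) (h1 : (c 1).1.1 *ᵥ v = pw w q.2.1 • v)
    (h2 : (c 2).1.1 *ᵥ v = pw w q.2.2 • v) (hq : q = p) : Eig w x p (y.1.1 *ᵥ v) := by
  subst hq
  refine ⟨?_, ?_, ?_⟩ <;> rw [← su_mul_mulVec, hc, su_mul_mulVec] <;>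
    first
      | rw [h0, mulVec_smul]
      | rw [h1, mulVec_smul]
      | rw [h2, mulVec_smul]

/-- The relations. -/
structure Weyl (x y : Fin 3 → Cfsg.SU 4 F 2) : Prop where
  x3 : ∀ j, x j ^ 3 = 1
  y2 : ∀ j, y j * y j = 1
  comm : ∀ j k, Commute (x j) (x k)
  ne : x 0 ≠ 1
  r00 : y 0 * x 0 * (y 0)⁻¹ = (x 0)⁻¹
  r01 : y 0 * x 1 * (y 0)⁻¹ = x 0 * x 1
  r02 : Commute (y 0) (x 2)
  r10 : y 1 * x 0 * (y 1)⁻¹ = x 0 * x 1
  r11 : y 1 * x 1 * (y 1)⁻¹ = (x 1)⁻¹
  r12 : y 1 * x 2 * (y 1)⁻¹ = x 1 * x 2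
  r20 : Commute (y 2) (x 0)
  r21 : y 2 * x 1 * (y 2)⁻¹ = x 1 * x 2
  r22 : y 2 * x 2 * (y 2)⁻¹ = (x 2)⁻¹

theorem inv_eig (Q : Quad σ w) {g : Cfsg.SU 4 F 2} {a : ZMod 3} {v : Fin 4 → F}
    (hv : g.1.1 *ᵥ v = pw w a • v) : (g⁻¹).1.1 *ᵥ v = pw w (-a) • v := by
  conv_lhs => rw [show v = g.1.1 *ᵥ (pw w (-a) • v) by
    rw [mulVec_smul, hv, smul_smul, ← pw_add Q, neg_add_cancel, pw_zero, one_smul]]
  rw [su_inv_mulVec]

theorem mul_eig (Q : Quad σ w) {g k : Cfsg.SU 4 F 2} {a b : ZMod 3} {v : Fin 4 → F}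
    (hg : g.1.1 *ᵥ v = pw w a • v) (hk : k.1.1 *ᵥ v = pw w b • v) :
    (g * k).1.1 *ᵥ v = pw w (a + b) • v := by
  rw [su_mul_mulVec, hk, mulVec_smul, hg, smul_smul, pw_add Q, mul_comm]

variable {y : Fin 3 → Cfsg.SU 4 F 2}

theorem Weyl.swap (W : Weyl x y) (j : Fin 3) {k : Fin 3} {z : Cfsg.SU 4 F 2}
    (e : y j * x k * (y j)⁻¹ = z) : x k * y j = y j * z := by
  have hi : (y j)⁻¹ = y j := inv_eq_of_mul_eq_one_right (W.y2 j)
  rw [← e, hi]
  simp only [← mul_assoc, W.y2, one_mul]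

theorem Weyl.eig0 (W : Weyl x y) (Q : Quad σ w) {p : Tri} {v : Fin 4 → F} (hv : Eig w x p v) :
    Eig w x (act0 p) ((y 0).1.1 *ᵥ v) :=
  eig_step (c := ![(x 0)⁻¹, x 0 * x 1, x 2]) (q := act0 p)
    (fun j => by fin_cases j <;> [exact W.swap 0 W.r00; exact W.swap 0 W.r01; exact W.r02.eq.symm])
    (inv_eig Q hv.1) (mul_eig Q hv.1 hv.2.1) hv.2.2 rfl

theorem Weyl.eig1 (W : Weyl x y) (Q : Quad σ w) {p : Tri} {v : Fin 4 → F} (hv : Eig w x p v) :
    Eig w x (act1 p) ((y 1).1.1 *ᵥ v) :=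
  eig_step (c := ![x 0 * x 1, (x 1)⁻¹, x 1 * x 2]) (q := act1 p)
    (fun j => by fin_cases j <;> [exact W.swap 1 W.r10; exact W.swap 1 W.r11; exact W.swap 1 W.r12])
    (mul_eig Q hv.1 hv.2.1) (inv_eig Q hv.2.1) (mul_eig Q hv.2.1 hv.2.2) rfl

theorem Weyl.eig2 (W : Weyl x y) (Q : Quad σ w) {p : Tri} {v : Fin 4 → F} (hv : Eig w x p v) :
    Eig w x (act2 p) ((y 2).1.1 *ᵥ v) :=
  eig_step (c := ![x 0, x 1 * x 2, (x 2)⁻¹]) (q := act2 p)
    (fun j => by fin_cases j <;> [exact W.r20.eq.symm; exact W.swap 2 W.r21; exact W.swap 2 W.r22])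
    hv.1 (mul_eig Q hv.2.1 hv.2.2) (inv_eig Q hv.2.2) rfl

set_option maxHeartbeats 800000 in
/-- The frame. -/
theorem Weyl.exists_frame [Finite F] (W : Weyl x y) (hF : Nat.card F = 2 ^ 2) (h : UFrob σ 2)
    (Q : Quad σ w) : ∃ g : Cfsg.SU 4 F 2, ∀ (k : Fin 3) (j : Fin 4), j.val < k.val ∨ k.val + 2 ≤ j.val →
      (x k).1.1 *ᵥ (g.1.1 *ᵥ Pi.single j 1) = g.1.1 *ᵥ Pi.single j 1 ∧
      (y k).1.1 *ᵥ (g.1.1 *ᵥ Pi.single j 1) = g.1.1 *ᵥ Pi.single j 1 := by
  let Occ : Tri → Prop := fun p => ∃ v, v ≠ 0 ∧ Eig w x p v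
  have move : ∀ (j : Fin 3) (v : Fin 4 → F), v ≠ 0 → (y j).1.1 *ᵥ v ≠ 0 := fun j v hv e => hv (by
    rw [← su_inv_mulVec (y j) v, e, mulVec_zero])
  have o0 : ∀ p, Occ p → Occ (act0 p) := fun p ⟨v, hv, he⟩ => ⟨_, move 0 v hv, W.eig0 Q he⟩
  have o1 : ∀ p, Occ p → Occ (act1 p) := fun p ⟨v, hv, he⟩ => ⟨_, move 1 v hv, W.eig1 Q he⟩
  have o2 : ∀ p, Occ p → Occ (act2 p) := fun p ⟨v, hv, he⟩ => ⟨_, move 2 v hv, W.eig2 Q he⟩
  obtain ⟨p, hp0, hp⟩ : ∃ p : Tri, p ≠ 0 ∧ Occ p := by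
    obtain ⟨a, v, ha, hv, hxv⟩ : ∃ (a : ZMod 3) (v : Fin 4 → F), a ≠ 0 ∧ v ≠ 0 ∧
        (x 0).1.1 *ᵥ v = pw w a • v := by
      by_contra hh
      push Not at hh
      refine W.ne (su_ext fun v => ?_)
      rw [su_one_mulVec]
      have z1 : proj w (x 0) 1 v = 0 := by
        by_contra hne; exact hh 1 _ (by decide) hne (proj_val Q (W.x3 0) 1 v)
      have z2 : proj w (x 0) 2 v = 0 := by
        by_contra hne; exact hh 2 _ (by decide) hne (proj_val Q (W.x3 0) 2 v)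
      have e := proj_sum Q (x 0) v
      rw [z1, z2, add_zero, add_zero] at e
      have := proj_val Q (W.x3 0) 0 v
      rwa [e, pw_zero, one_smul] at this
    obtain ⟨b, u, hu, hxu, keep⟩ := exists_eig Q (W.x3 1) hv
    obtain ⟨c, t, ht, hxt, keep'⟩ := exists_eig Q (W.x3 2) hu
    exact ⟨(a, b, c), fun e => ha (congrArg Prod.fst e), t, ht,
      keep' (x 0) _ (W.comm 0 2) (keep (x 0) _ (W.comm 0 1) hxv), keep' (x 1) _ (W.comm 1 2) hxu, hxt⟩
  obtain ⟨e, he, j, rfl⟩ : ∃ e : ZMod 3, e ≠ 0 ∧ ∃ j, p = pt e j := by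
    refine (orbit_cases p hp0).resolve_right fun h5 => ?_
    have := card_le_four Q (orbitPart p) (fun q hq => by
      simp only [orbitPart, Finset.mem_insert, Finset.mem_singleton] at hq
      rcases hq with rfl | rfl | rfl | rfl | rfl | rfl | rfl | rfl | rfl | rfl | rfl | rfl | rfl | rfl
      exacts [hp, o0 _ hp, o1 _ hp, o2 _ hp, o0 _ (o1 _ hp), o0 _ (o2 _ hp), o1 _ (o0 _ hp),
        o1 _ (o2 _ hp), o2 _ (o1 _ hp), o0 _ (o1 _ (o2 _ hp)), o2 _ (o1 _ (o0 _ hp)),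
        o1 _ (o0 _ (o2 _ hp)), o1 _ (o2 _ (o1 _ hp)), o0 _ (o2 _ (o1 _ hp))])
    omega
  obtain ⟨s01, s10, s12, s21, s23, s32, f02, f03, f10, f13, f20, f21⟩ := pt_step e
  have all0 : Occ (pt e 0) := by
    fin_cases j
    · exact hp
    · exact s10 ▸ o0 _ hp
    · exact s10 ▸ o0 _ (s21 ▸ o1 _ hp)
    · exact s10 ▸ o0 _ (s21 ▸ o1 _ (s32 ▸ o2 _ hp))
  have all1 : Occ (pt e 1) := s01 ▸ o0 _ all0
  have all2 : Occ (pt e 2) := s12 ▸ o1 _ all1
  have all : ∀ j, Occ (pt e j) := fun j => by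
    fin_cases j <;> [exact all0; exact all1; exact all2; exact s23 ▸ o2 _ all2]
  choose v hv0 hv using all
  have hli : LinearIndependent F v := by
    rw [Fintype.linearIndependent_iff]
    intro c hc a
    have := congrArg (projP w x (pt e a)) hc
    rw [projP_sum, show projP w x (pt e a) (0 : Fin 4 → F) = 0 by simp [projP, proj_zero],
      Finset.sum_eq_single a (fun b _ hb => by
        rw [projP_smul, projP_eig Q (hv b), if_neg fun e' => hb (pt_inj e he _ _ e'), smul_zero])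
        (fun hq => absurd (Finset.mem_univ a) hq),
      projP_smul, projP_eig Q (hv a), if_pos rfl] at this
    exact (smul_eq_zero.1 this).resolve_right (hv0 a)
  have decomp : ∀ z, ∃ c : Fin 4 → F, ∑ b, c b • v b = z := by
    intro z
    have hz : z ∈ Submodule.span F (Set.range v) := by
      rw [hli.span_eq_top_of_card_eq_finrank (by simp)]; trivial
    exact (Submodule.mem_span_range_iff_exists_fun F).1 hz
  have line : ∀ a z, Eig w x (pt e a) z → ∃ c : F, z = c • v a := by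
    intro a z hz
    obtain ⟨c, rfl⟩ := decomp z
    refine ⟨c a, ?_⟩
    have := projP_eig Q hz (pt e a)
    rw [if_pos rfl, projP_sum, Finset.sum_eq_single a (fun b _ hb => by
      rw [projP_smul, projP_eig Q (hv b), if_neg fun e' => hb (pt_inj e he _ _ e'), smul_zero])
      (fun hq => absurd (Finset.mem_univ a) hq), projP_smul, projP_eig Q (hv a), if_pos rfl] at this
    exact this.symm
  have orth : ∀ a b, a ≠ b → uh σ (v a) (v b) = 0 := by
    intro a b hab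
    by_contra hne
    have key : ∀ (g : Cfsg.SU 4 F 2) (r s : ZMod 3), g.1.1 *ᵥ v a = pw w r • v a →
        g.1.1 *ᵥ v b = pw w s • v b → r = s := by
      intro g r s hr hs
      have := su_uh h g (v a) (v b)
      rw [hr, hs, uh_smul_left, uh_smul_right, pw_conj Q, ← mul_assoc, ← pw_add Q] at this
      exact add_neg_eq_zero.1 (pw_inj Q ((mul_eq_right₀ hne).1 this))
    exact hab (pt_inj e he _ _ (Prod.ext (key _ _ _ (hv a).1 (hv b).1)
      (Prod.ext (key _ _ _ (hv a).2.1 (hv b).2.1) (key _ _ _ (hv a).2.2 (hv b).2.2))))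
  have aniso : ∀ a, uh σ (v a) (v a) ≠ 0 := fun a e0 => hv0 a (uh_ext h fun z => by
    obtain ⟨c, rfl⟩ := decomp z
    rw [uh_zero_right, uh_sum_left]
    refine Finset.sum_eq_zero fun b _ => ?_
    rw [uh_smul_left]
    rcases eq_or_ne b a with rfl | hb
    · rw [e0, mul_zero]
    · rw [orth b a hb, mul_zero])
  choose n hn0 hn using fun a => exists_normalise hF h (aniso a)
  obtain ⟨g, hg⟩ := exists_su_map hF h
    (o := fun a : Fin 3 => (Pi.single (Fin.castSucc a) 1 : Fin 4 → F))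
    (o' := fun a : Fin 3 => n (Fin.castSucc a) • v (Fin.castSucc a))
    (fun a b => by
      rw [uh_single_left]
      rcases eq_or_ne a b with rfl | hab
      · simp
      · simp [hab])
    (fun a b => by
      rcases eq_or_ne a b with rfl | hab
      · rw [if_pos rfl]; exact hn _
      · rw [if_neg hab, uh_smul_left, uh_smul_right,
          orth _ _ (fun e' => hab (Fin.castSucc_injective _ e')), mul_zero, mul_zero])
    (by omega)
  have cols : ∀ b, ∃ c : F, g.1.1 *ᵥ Pi.single b 1 = c • v b := by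
    intro b
    induction b using Fin.lastCases with
    | cast a => exact ⟨_, hg a⟩
    | last =>
      obtain ⟨c, hc⟩ := decomp (g.1.1 *ᵥ Pi.single (Fin.last 3) 1)
      refine ⟨c (Fin.last 3), ?_⟩
      rw [← hc, Finset.sum_eq_single (Fin.last 3) (fun b _ hb => ?_)
        (fun hq => absurd (Finset.mem_univ _) hq)]
      induction b using Fin.lastCases with
      | last => exact absurd rfl hb
      | cast a =>
        have := su_uh h g (Pi.single (Fin.last 3) 1) (Pi.single (Fin.castSucc a) 1)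
        rw [hg a, ← hc, uh_single_left, Pi.single_eq_of_ne (Fin.castSucc_lt_last a).ne', map_zero,
          mul_zero, uh_smul_right, uh_sum_left,
          Finset.sum_eq_single (Fin.castSucc a) (fun b' _ hb' => by
            rw [uh_smul_left, orth _ _ hb', mul_zero]) (fun hq => absurd (Finset.mem_univ _) hq),
          uh_smul_left] at this
        rcases mul_eq_zero.1 this with e1 | e1
        · exact absurd e1 (by simpa using hn0 (Fin.castSucc a))
        · rw [(mul_eq_zero.1 e1).resolve_right (aniso _), zero_smul]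
  have fixes : ∀ (k : Fin 3) (b : Fin 4), b.val < k.val ∨ k.val + 2 ≤ b.val →
      (x k).1.1 *ᵥ v b = v b ∧ Eig w x (pt e b) ((y k).1.1 *ᵥ v b) := by
    intro k b hkb
    fin_cases k <;> fin_cases b <;> simp at hkb
    · exact ⟨by simpa [pt, pw_zero] using (hv 2).1, f02 ▸ W.eig0 Q (hv 2)⟩
    · exact ⟨by simpa [pt, pw_zero] using (hv 3).1, f03 ▸ W.eig0 Q (hv 3)⟩
    · exact ⟨by simpa [pt, pw_zero] using (hv 0).2.1, f10 ▸ W.eig1 Q (hv 0)⟩
    · exact ⟨by simpa [pt, pw_zero] using (hv 3).2.1, f13 ▸ W.eig1 Q (hv 3)⟩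
    · exact ⟨by simpa [pt, pw_zero] using (hv 0).2.2, f20 ▸ W.eig2 Q (hv 0)⟩
    · exact ⟨by simpa [pt, pw_zero] using (hv 1).2.2, f21 ▸ W.eig2 Q (hv 1)⟩
  refine ⟨g, fun k b hkb => ?_⟩
  obtain ⟨hxv, hyv⟩ := fixes k b hkb
  obtain ⟨c, hc⟩ := cols b
  obtain ⟨d, hd⟩ := line b _ hyv
  have hd1 : d = 1 := by
    have hdd : d * d = 1 := (smul_left_injective F (hv0 b)
      (show (1 : F) • v b = (d * d) • v b by
        conv_lhs => rw [one_smul, show v b = (y k * y k).1.1 *ᵥ v b by rw [W.y2, su_one_mulVec],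
          su_mul_mulVec, hd, mulVec_smul, hd, smul_smul])).symm
    have : (d - 1) * (d - 1) = 0 := by linear_combination hdd + (1 - d) * Q.two
    exact sub_eq_zero.1 (mul_self_eq_zero.1 this)
  rw [hd1, one_smul] at hd
  rw [hc, mulVec_smul, mulVec_smul, hxv, hd]
  exact ⟨rfl, rfl⟩

end CfsgLib.Phan.Two
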